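import Groth.Agent.Lib.Cube10.Locus
import Groth.Agent.Lib.CubeField.H1

/-!
# Families of invertible modules on a variety with vanishing `H¹(O)`
-/

set_option autoImplicit false
set_option linter.style.haveILetI false
set_option backward.isDefEq.respectTransparency false
set_option backward.isDefEq.respectTransparency.types false

universe u

open CategoryTheory Limits AlgebraicGeometry TopologicalSpace

noncomputable section

namespace Groth.Agent.PicProd10

open CubeField Cube10 RigidRel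

/-- If `H¹(W, O) = 0`, cocycles of functions are coboundaries. -/
theorem isCoboundary_of_subsingleton {W : Scheme.{u}} {n : ℕ} (V : Fin n → W.Opens) (hcov : ⨆ i, V i = ⊤)
    (f : ∀ i j, Γ(W, V i ⊓ V j)) (hf : IsCocycle V f)
    (h : Subsingleton (Coh.HH W (Coh.structureModule W) 1)) : IsCoboundary V f := by
  obtain ⟨x, hx⟩ := exists_isClass ((CohFound.abF W).obj (Coh.structureModule W)) V hcov f hf
  haveI := (CohFound.hhExt (Coh.structureModule W) 1).toEquiv.subsingleton_congr.1 h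
  obtain rfl : x = 0 := Subsingleton.elim _ _
  obtain ⟨t, ht⟩ := hx.eq_boundary _ _
  exact ⟨t, ht⟩

/-- The empty slice. -/
def emptySlice {R : CommRingCat.{u}} {W W₁ : Scheme.{u}} {ι : Type} (ξ : W ⟶ Spec R) (c : Coc W ι)
    (J m : Ideal R) {f₁ : W₁ ⟶ W} {η₁ : W₁ ⟶ Spec (CommRingCat.of (R ⧸ m))}
    (h₁ : IsPullback f₁ η₁ ξ (Spec.map (mkQ m))) :
    SliceData ξ c J m f₁
      (h₁.lift (pullback.fst ((⊥ : W.Opens).ι ≫ ξ) (Spec.map (mkQ m)) ≫ (⊥ : W.Opens).ι)
        (pullback.snd ((⊥ : W.Opens).ι ≫ ξ) (Spec.map (mkQ m)))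
        ((Category.assoc _ _ _).trans pullback.condition)) :=
  haveI : IsEmpty (⊥ : W.Opens).toScheme := ⟨fun x => x.2.elim⟩
  { T := (⊥ : W.Opens).toScheme
    j := (⊥ : W.Opens).ι
    flat := by
      refine (Flat.iff_flat_stalkMap _).2 fun x => ?_
      exact x.2.elim
    aff := ⟨fun U hU => by
      haveI : IsEmpty ((⊥ : W.Opens).ι ⁻¹ᵁ U).toScheme := ⟨fun x => x.1.2.elim⟩
      exact inferInstanceAs (IsAffine ((⊥ : W.Opens).ι ⁻¹ᵁ U).toScheme)⟩
    triv := ⟨fun _ => 1, fun _ _ => Subsingleton.elim _ _, fun _ => isUnit_one⟩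
    const := fun x => by
      haveI : IsEmpty ↑(pullback ((⊥ : W.Opens).ι ≫ ξ) (Spec.map (mkQ J))) :=
        ⟨fun z => (pullback.fst ((⊥ : W.Opens).ι ≫ ξ) (Spec.map (mkQ J)) z).2.elim⟩
      exact ⟨0, Subsingleton.elim _ _⟩
    p₁ := pullback.fst ((⊥ : W.Opens).ι ≫ ξ) (Spec.map (mkQ m))
    η₁ := pullback.snd ((⊥ : W.Opens).ι ≫ ξ) (Spec.map (mkQ m))
    sq := IsPullback.of_hasPullback _ _
    comm := (h₁.lift_fst _ _ _).symm }

/-- Invertible modules on local schemes are trivial. -/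
theorem isTriv_spec_local (R : CommRingCat.{u}) [IsLocalRing R] {N : (Spec R).Modules} (hN : PicF.IsInvertible N) :
    IsTriv N := by
  obtain ⟨U, hxU, ⟨e⟩⟩ := hN (IsLocalRing.closedPoint R)
  obtain rfl : U = ⊤ := top_le_iff.1 fun y _ => (IsLocalRing.specializes_closedPoint y).mem_open U.isOpen hxU
  let t := (Spec R).topIso
  have h1 : IsTriv ((Scheme.Modules.pullback (⊤ : (Spec R).Opens).ι).obj N) :=
    ⟨((Scheme.Modules.restrictFunctorIsoPullback (⊤ : (Spec R).Opens).ι).app N).symm ≪≫ e⟩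
  have h2 : IsTriv ((Scheme.Modules.pullback (t.inv ≫ (⊤ : (Spec R).Opens).ι)).obj N) :=
    (isTriv_comp_iff t.inv _ N).1 (h1.pullback t.inv)
  have h3 : t.inv ≫ (⊤ : (Spec R).Opens).ι = 𝟙 _ := t.inv_hom_id
  rw [h3] at h2
  obtain ⟨e'⟩ := h2
  exact ⟨((Scheme.Modules.pullbackId _).app N).symm ≪≫ e'⟩

/-- A locally free module with invertible surjective pullback is invertible. -/
theorem isInvertible_of_surjective {X T : Scheme.{u}} (p : X ⟶ T) (hp : Function.Surjective p.base)
    {N : T.Modules} (hN : FlatMod.IsFinLocFree N) (h : PicF.IsInvertible ((Scheme.Modules.pullback p).obj N)) :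
    PicF.IsInvertible N := by
  refine (M2.isInvertible_iff_isFinLocFreeOfRank_one N).2 (RankLoc10.isFinLocFreeOfRank_of_rk hN fun t => ?_)
  obtain ⟨x, rfl⟩ := hp t
  rw [← RankLoc10.rk_pullback hN p x]
  obtain ⟨U, e, hxU, -, -, he⟩ := Amp.exists_isGenerator h (V := ⊤) (x := x) trivial
  refine RankLoc10.rk_eq_of_isBas (r := 1) (e := fun _ => e) (U := U) ?_ hxU
  intro V hV
  have hg := he V hV
  constructor
  · intro c d hcd
    funext i
    obtain rfl : i = 0 := Subsingleton.elim _ _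
    exact hg.1 (by simpa using hcd)
  · intro s
    obtain ⟨a, ha⟩ := hg.2 s
    exact ⟨fun _ => a, by simpa using ha⟩

variable {X S : Scheme.{u}} (f : X ⟶ S) [IsProper f] [Flat f] [LocallyOfFinitePresentation f]
  [GeometricallyIntegral f] (L : X.Modules) (hL : PicF.IsInvertible L)
  (h1 : ∀ (K : Type u) [Field K] (t : Spec (CommRingCat.of K) ⟶ S),
    Subsingleton (Coh.HH (pullback f t) (Coh.structureModule (pullback f t)) 1))

/-- Trivial after base change along `t`. -/
def Trv {T : Scheme.{u}} (t : T ⟶ S) : Prop := IsTriv ((Scheme.Modules.pullback (pullback.fst f t)).obj L)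

omit [LocallyOfFinitePresentation f] [GeometricallyIntegral f] in
include hL h1 in
theorem trv_of_small (R : CommRingCat.{u}) [IsLocalRing R] (J : Ideal R) (hJ : J.FG)
    (hJle : J ≤ IsLocalRing.maximalIdeal R) (hJm : IsLocalRing.maximalIdeal R * J = ⊥) (t : Spec R ⟶ S)
    (h0 : Trv f L (Spec.map (mkQ J) ≫ t)) : Trv f L t := by
  set m := IsLocalRing.maximalIdeal R
  letI : Field ((R : Type u) ⧸ m) := Ideal.Quotient.field m
  let ξ := pullback.snd f t
  haveI : CompactSpace ↥(pullback f t) := QuasiCompact.compactSpace_of_compactSpace ξ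
  haveI : (pullback f t).IsSeparated := ⟨by rw [← terminal.comp_from ξ]; infer_instance⟩
  obtain ⟨n, c, hV, hcov, ⟨τ⟩⟩ := CubeField.exists_triv ((Scheme.Modules.pullback (pullback.fst f t)).obj L)
    (PicLoc.isInvertible_pullback _ hL)
  refine (τ.iso_iff hcov).2 ?_
  have ht : (c.pull (step f (Spec.map (mkQ J)) t)).Trivial := by
    refine (τ.pull_iso_iff hcov _).1 ((isTriv_comp_iff _ _ _).2 ?_)
    exact (isTriv_of_eq (pullback.lift_fst _ _ _).symm) h0
  have h₁ := isPullback_step f (Spec.map (mkQ m)) t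
  refine trivial_of_deform ξ hJ hJle hJm c hV hcov (isPullback_step f _ t) ht h₁
    (emptySlice ξ c J m h₁) (emptySlice ξ c J m h₁) fun g hg _ _ => ?_
  exact isCoboundary_of_subsingleton _ (by rw [← Scheme.Hom.preimage_iSup, hcov]; rfl) g hg
    (h1 _ (Spec.map (mkQ m) ≫ t))

include hL h1 in
/-- The fibres where the module is trivial form a clopen set over which it comes from the base. -/
theorem exists_clopen_desc :
    ∃ W : S.Opens, IsClosed (W : Set S) ∧
      (∀ s, s ∈ W ↔ IsTriv ((Scheme.Modules.pullback (f.fiberι s)).obj L)) ∧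
      ∃ N : W.toScheme.Modules, PicF.IsInvertible N ∧
        Nonempty ((Scheme.Modules.pullback (pullback.snd f W.ι)).obj N ≅
          (Scheme.Modules.pullback (pullback.fst f W.ι)).obj L) := by
  have hO := univAppIso_of_geometrically f
  obtain ⟨Q, j, hj, hjfp, -, hu⟩ := RankLoc10.exists_desc_immersion (M2.isFinLocFree_of_isInvertible hL) hO
  have hsurj : ∀ {T : Scheme.{u}} (t : T ⟶ S), Function.Surjective (pullback.snd f t).base := fun t y =>
    RankLoc10.surjective_of_univAppIso (hO.baseChange (IsPullback.of_hasPullback f t)) y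
  have hfac : ∀ {T : Scheme.{u}} (t : T ⟶ S), (∃ l, l ≫ j = t) ↔ ∃ N : T.Modules, PicF.IsInvertible N ∧
      Nonempty ((Scheme.Modules.pullback (pullback.snd f t)).obj N ≅
        (Scheme.Modules.pullback (pullback.fst f t)).obj L) := fun {T} t => by
    rw [hu T t]
    exact ⟨fun ⟨N, hN, ⟨e⟩⟩ => ⟨N, isInvertible_of_surjective _ (hsurj t) hN
        (M2.isInvertible_of_iso e.symm (PicLoc.isInvertible_pullback _ hL)), ⟨e⟩⟩,
      fun ⟨N, hN, he⟩ => ⟨N, M2.isFinLocFree_of_isInvertible hN, he⟩⟩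
  have htrv : ∀ {R : CommRingCat.{u}} [IsLocalRing R] (t : Spec R ⟶ S), (∃ l, l ≫ j = t) ↔ Trv f L t := by
    intro R _ t
    rw [hfac]
    constructor
    · rintro ⟨N, hN, ⟨e⟩⟩
      obtain ⟨eN⟩ := isTriv_spec_local R hN
      exact ⟨e.symm ≪≫ (Scheme.Modules.pullback _).mapIso eN ≪≫ Twist.pullbackUnitIso _⟩
    · rintro ⟨e⟩
      exact ⟨Coh.structureModule _, PicLoc.isInvertible_structureModule _,
        ⟨Twist.pullbackUnitIso _ ≪≫ e.symm⟩⟩
  haveI : IsOpenImmersion j := isOpenImmersion_of_smallLift j fun R _ J hJ hJle hJm t ht => by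
    haveI : IsLocalRing ↑(CommRingCat.of ((R : Type u) ⧸ J)) :=
      haveI : Nontrivial ((R : Type u) ⧸ J) := Ideal.Quotient.nontrivial_iff.2
        fun h => (IsLocalRing.maximalIdeal.isMaximal R).ne_top (top_le_iff.1 (h ▸ hJle))
      IsLocalRing.of_surjective' (Ideal.Quotient.mk J) Ideal.Quotient.mk_surjective
    exact (htrv t).2 (trv_of_small f L hL h1 R J hJ hJle hJm t ((htrv _).1 ht))
  have hmem : ∀ z, z ∈ j.opensRange ↔ IsTriv ((Scheme.Modules.pullback (f.fiberι z)).obj L) := fun z => by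
    constructor
    · intro hz
      refine (htrv (S.fromSpecResidueField z)).1 ⟨IsOpenImmersion.lift j _ ?_, IsOpenImmersion.lift_fac _ _ _⟩
      rintro _ ⟨x, rfl⟩
      rw [S.fromSpecResidueField_apply]
      exact hz
    · intro hz
      obtain ⟨l, hl⟩ := (htrv (S.fromSpecResidueField z)).2 hz
      obtain ⟨x⟩ : Nonempty (Spec (S.residueField z)) := inferInstanceAs (Nonempty (PrimeSpectrum (S.residueField z)))
      exact ⟨l x, by rw [← Scheme.Hom.comp_apply, hl, S.fromSpecResidueField_apply]⟩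
  refine ⟨j.opensRange, ?_, hmem, ?_⟩
  · obtain ⟨D, hD, ⟨e⟩⟩ := M2.exists_inverse hL
    have hset : (j.opensRange : Set S) = {z | Nontrivial (CohIII.fiberH f L z 0)} ∩
        {z | Nontrivial (CohIII.fiberH f D z 0)} := Set.ext fun z =>
      (hmem z).trans (fibre_trivial_iff f z hL hD e)
    rw [hset]
    exact (isClosed_nontrivial_fiber f hL).inter (isClosed_nontrivial_fiber f hD)
  · exact (hfac j.opensRange.ι).1
      ⟨IsOpenImmersion.lift j _ (by rw [Scheme.Opens.range_ι]; rfl), IsOpenImmersion.lift_fac _ _ _⟩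

end Groth.Agent.PicProd10
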